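import Cfsg.Agent.H561.RV.AutCrit
import Cfsg.Agent.S1157
import Cfsg.Agent.S1152
import Cfsg.Agent.GH.EFrameAct

/-!
# S4311, S3851: `AutOdd` for the Ree groups `²G₂(q)` (helper42)

If the Sylow 2-subgroups `P` of `S` are elementary abelian of order 8 with `C(P) = P` and `|N(P)| = 168` then
`N(P)/P` is a subgroup of order 21 of `MulAut P` (order 168): an automorphism of odd order of `P` which normalises it lies
in it.
-/

set_option autoImplicit false

namespace Cfsg.Agent.H42.RV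

open Cfsg Subgroup Cfsg.Agent.H561.RV

/-- an element of odd order which normalises a subgroup of 2-power index lies in it -/
theorem mem_of_odd {A : Type*} [Group A] [Finite A] {B : Subgroup A} {n : ℕ} (hB : B.index = 2 ^ n) {a : A}
    (ha : Odd (orderOf a)) (hn : a ∈ normalizer (B : Set A)) : a ∈ B := by
  set N := normalizer (B : Set A) with hN
  have hBN : B ≤ N := le_normalizer
  have hnor : (B.subgroupOf N).Normal := (normal_subgroupOf_iff_le_normalizer hBN).2 le_rfl
  have h1 : Nat.card (N ⧸ B.subgroupOf N) ∣ 2 ^ n := by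
    have h2 : Nat.card (N ⧸ B.subgroupOf N) = B.relIndex N := rfl
    rw [h2, ← hB]
    exact relIndex_dvd_index_of_le hBN
  set x : N ⧸ B.subgroupOf N := QuotientGroup.mk ⟨a, hn⟩ with hx
  have h2 : orderOf x ∣ 2 ^ n := (orderOf_dvd_natCard x).trans h1
  have h3 : orderOf x ∣ orderOf a := by
    have h4 : orderOf x ∣ orderOf (⟨a, hn⟩ : N) := orderOf_map_dvd (QuotientGroup.mk' (B.subgroupOf N)) _
    rwa [Subgroup.orderOf_mk] at h4
  have h4 : orderOf x = 1 := by
    have h5 : (2 ^ n).Coprime (orderOf a) := Nat.Coprime.pow_left n (Nat.coprime_two_left.2 ha)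
    exact Nat.eq_one_of_dvd_coprimes h5 h2 h3
  rw [orderOf_eq_one_iff, hx, QuotientGroup.eq_one_iff] at h4
  exact h4

theorem card_mulAut {V : Type*} [Group V] (h : ∀ x : V, x * x = 1) (hc : Nat.card V = 8) :
    Nat.card (MulAut V) = 168 := by
  let _ : CommGroup V := { (inferInstance : Group V) with
    mul_comm := fun x y => by
      have h1 := h (x * y)
      have h2 : x * y = (x * y)⁻¹ := eq_inv_of_mul_eq_one_left h1
      rw [h2, mul_inv_rev, inv_eq_of_mul_eq_one_left (h x), inv_eq_of_mul_eq_one_left (h y)] }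
  exact GH.EFrameAct.card_mulAut_eight (fun x => by rw [pow_two]; exact h x) hc

theorem autOdd_of_eight {S : Type*} [Group S] [Finite S]
    (h : ∀ P : Sylow 2 S, Nat.card P = 8 ∧ (∀ x ∈ P, x * x = 1) ∧
      centralizer ((P : Subgroup S) : Set S) = P ∧ Nat.card (normalizer ((P : Subgroup S) : Set S)) = 168) :
    AutOdd S := by
  intro P φ hφ
  have hfin : Finite (MulAut S) := Finite.of_injective (fun f : MulAut S => (f : S → S)) DFunLike.coe_injective
  obtain ⟨h8, hsq, hC, hN⟩ := h P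
  -- move the image of `P` back
  obtain ⟨t, ht⟩ : ∃ t : S, ∀ x ∈ P, t * φ x * t⁻¹ ∈ P := by
    have hP' : (φ • P : Sylow 2 S) = φ • P := rfl
    obtain ⟨t, ht⟩ := MulAction.exists_smul_eq S (φ • P : Sylow 2 S) P
    refine ⟨t, fun x hx => ?_⟩
    have h1 : t * φ x * t⁻¹ ∈ ((t • (φ • P) : Sylow 2 S) : Subgroup S) := by
      refine ⟨φ x, ?_, rfl⟩
      exact ⟨x, hx, rfl⟩
    rw [ht] at h1
    exact h1
  set φ₁ : MulAut S := MulAut.conj t * φ with hφ₁
  have hφ₁P : ∀ x ∈ P, φ₁ x ∈ P := fun x hx => ht x hx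
  have hpow : ∀ n : ℕ, ∀ x ∈ P, (φ₁ ^ n) x ∈ P := by
    intro n
    induction n with
    | zero => intro x hx; exact hx
    | succ n ih => intro x hx; rw [pow_succ, MulAut.mul_apply]; exact ih _ (hφ₁P x hx)
  -- an automorphism of odd order in the same coset
  obtain ⟨a, m, hm, ho⟩ := Nat.exists_eq_two_pow_mul_odd (n := orderOf φ₁) (orderOf_pos φ₁).ne'
  have hcop : (2 ^ a).Coprime (orderOf φ) := Nat.Coprime.pow_left a (Nat.coprime_two_left.2 hφ)
  obtain ⟨N, hN1, hN2⟩ := Nat.chineseRemainder hcop 0 1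
  set ψ : MulAut S := φ₁ ^ N with hψ
  obtain ⟨u, hu⟩ : ∃ u : S, ψ = MulAut.conj u * φ := by
    obtain ⟨u, hu⟩ := conj_mul_pow t φ N
    refine ⟨u, ?_⟩
    rw [hψ, hφ₁, hu]
    congr 1
    have h1 : φ ^ N = φ ^ 1 := pow_eq_pow_iff_modEq.2 hN2
    rw [h1, pow_one]
  have hψo : Odd (orderOf ψ) := by
    have h1 : 2 ^ a ∣ N := (Nat.modEq_zero_iff_dvd).1 hN1
    obtain ⟨k, hk⟩ := h1
    have h2 : orderOf ψ ∣ m := by
      apply orderOf_dvd_of_pow_eq_one
      rw [hψ, ← pow_mul, hk]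
      have h3 : 2 ^ a * k * m = orderOf φ₁ * k := by rw [ho]; ring
      rw [h3, pow_mul, pow_orderOf_eq_one, one_pow]
    exact Odd.of_dvd_nat hm h2
  have hψP : ∀ x ∈ P, ψ x ∈ P := hpow N
  -- restriction to `P`
  have hψP' : ∀ x, ψ x ∈ P ↔ x ∈ P := by
    have h1 : (P : Subgroup S).map (ψ : S ≃* S).toMonoidHom = P := by
      apply eq_of_le_of_card_ge
      · rintro _ ⟨x, hx, rfl⟩
        exact hψP x hx
      · rw [card_map_of_injective (ψ : S ≃* S).injective]
    intro x
    constructor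
    · intro hx
      have hx' : ψ x ∈ (P : Subgroup S).map (ψ : S ≃* S).toMonoidHom := by rw [h1]; exact hx
      obtain ⟨y, hy, hyx⟩ := hx'
      have := ψ.injective hyx
      exact this ▸ hy
    · exact hψP x
  let α : MulAut P :=
    { toFun := fun x => ⟨ψ x, hψP x x.2⟩
      invFun := fun x => ⟨ψ⁻¹ x, (hψP' _).1 (by rw [MulAut.apply_inv_self]; exact x.2)⟩
      left_inv := fun x => Subtype.ext (MulAut.inv_apply_self S ψ x)
      right_inv := fun x => Subtype.ext (MulAut.apply_inv_self S ψ x)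
      map_mul' := fun x y => Subtype.ext (map_mul ψ (x : S) y) }
  have hα : ∀ x : P, ((α x : P) : S) = ψ x := fun _ => rfl
  have hαp : ∀ n : ℕ, ∀ x : P, (((α ^ n) x : P) : S) = (ψ ^ n) x := by
    intro n
    induction n with
    | zero => intro x; rfl
    | succ n ih => intro x; rw [pow_succ, pow_succ, MulAut.mul_apply, MulAut.mul_apply, ih, hα]
  have hαo : Odd (orderOf α) := by
    refine Odd.of_dvd_nat hψo (orderOf_dvd_of_pow_eq_one ?_)
    ext x
    rw [hαp, pow_orderOf_eq_one]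
    rfl
  -- the automizer
  have hfinP : Finite (MulAut P) := Finite.of_injective (fun f : MulAut P => (f : P → P)) DFunLike.coe_injective
  set ρ := (P : Subgroup S).normalizerMonoidHom with hρ
  have hρa : ∀ (n : normalizer ((P : Subgroup S) : Set S)) (x : P), ((ρ n x : P) : S) = n * x * (n : S)⁻¹ :=
    fun n x => rfl
  have hcard : Nat.card ρ.range = 21 := by
    have h1 : Nat.card ρ.ker = 8 := by
      rw [hρ, normalizerMonoidHom_ker, hC]
      rw [Nat.card_congr (subgroupOfEquivOfLe (le_normalizer (H := (P : Subgroup S)))).toEquiv]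
      exact h8
    have h2 := card_mul_index ρ.ker
    rw [hN, h1, index_ker] at h2
    omega
  have hidx : ρ.range.index = 2 ^ 3 := by
    have h1 := card_mul_index ρ.range
    rw [hcard, card_mulAut (fun x => Subtype.ext (hsq x x.2)) h8] at h1
    omega
  have hnorm : α ∈ normalizer (ρ.range : Set (MulAut P)) := by
    have hle : ρ.range.map (MulAut.conj α).toMonoidHom = ρ.range := by
      apply eq_of_le_of_card_ge
      · rintro _ ⟨_, ⟨n, rfl⟩, rfl⟩
        have hn : ψ n ∈ normalizer ((P : Subgroup S) : Set S) := by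
          rw [mem_normalizer_iff]
          intro x
          have h1 : (ψ⁻¹ x ∈ P) ↔ ((n : S) * ψ⁻¹ x * (n : S)⁻¹ ∈ P) := mem_normalizer_iff.1 n.2 (ψ⁻¹ x)
          rw [← hψP', ← hψP' ((n : S) * ψ⁻¹ x * (n : S)⁻¹), map_mul, map_mul, map_inv, MulAut.apply_inv_self] at h1
          exact h1
        refine ⟨⟨ψ n, hn⟩, ?_⟩
        ext x
        rw [hρa]
        show ψ n * x * (ψ n)⁻¹ = ((α * ρ n * α⁻¹) x : P)
        rw [MulAut.mul_apply, MulAut.mul_apply, hα, hρa]
        rw [map_mul, map_mul, map_inv]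
        congr 2
        have h2 : ((α (α⁻¹ x) : P) : S) = x := by rw [MulAut.apply_inv_self]
        rw [hα] at h2
        exact h2.symm
      · rw [card_map_of_injective (MulAut.conj α).injective]
    rw [mem_normalizer_iff_map_conj_eq]
    exact hle
  obtain ⟨n, hn⟩ := mem_of_odd hidx hαo hnorm
  refine ⟨(n : S)⁻¹ * u, fun x hx => ?_⟩
  have h1 : ψ x = n * x * (n : S)⁻¹ := by
    rw [← hα ⟨x, hx⟩, ← hn]
    exact hρa n ⟨x, hx⟩
  have h2 : ψ x = u * φ x * u⁻¹ := by rw [hu]; rfl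
  have h3 : (n : S)⁻¹ * u * φ x * ((n : S)⁻¹ * u)⁻¹ = (n : S)⁻¹ * (u * φ x * u⁻¹) * n := by group
  rw [h3, ← h2, h1]
  group

/-- **AO-REE** -/
theorem autOdd_ree {S : Type*} [Group S] [Finite S] (h : Cfsg.Lie.IsoRee S) : AutOdd S := by
  obtain ⟨K, _, _, m, hm, hK, ⟨e⟩⟩ := h
  obtain ⟨u, huH, hu1, hu2⟩ := Cfsg.Agent.S1157.exists_involution hK
  obtain ⟨-, hS⟩ := Cfsg.Agent.S1152.result hK u huH hu1 hu2
  refine AutOdd.of_equiv e (autOdd_of_eight fun P => ?_)
  obtain ⟨h1, h2⟩ := Cfsg.Agent.S1157.result hm hK P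
  exact ⟨(hS P).1, (hS P).2, h1, h2⟩

end Cfsg.Agent.H42.RV
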